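import Groth.Agent.SSMod.K755.Plan3
import Groth.Agent.SSMod.K971.RestrictCurve

/-!
# RESTR: semistable modifications which are isomorphisms on generic fibres restrict along open immersions
-/

set_option autoImplicit false
universe u
open CategoryTheory CategoryTheory.Limits AlgebraicGeometry TopologicalSpace

namespace K106.Restr

/-- **RESTR**. -/
theorem main : K755.SSPlan.Restr.{u} := by
  intro S C D C' D' V DV X DX _ φ i hC i' gC gD h hη hηD j _ hc hs jD iV sq j' f sqC jD' d sqD iX h1 h2
  obtain ⟨⟨hw, hMP, hm1, hm2⟩, hss⟩ := h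
  have hj' : IsOpenImmersion j' := MorphismProperty.of_isPullback sqC.flip ‹IsOpenImmersion j›
  have hjD : IsOpenImmersion jD := MorphismProperty.of_isPullback sq.flip ‹IsOpenImmersion j›
  have hbig : IsPullback jD' (iX ≫ f) (i' ≫ gC) j := by
    rw [h2, hw]
    exact sqD.paste_vert sq
  have sqD' : IsPullback jD' iX i' j' := IsPullback.of_bot hbig h1.symm sqC
  have hp : IsProper gC := hm1.1
  have hpV : IsProper f := MorphismProperty.of_isPullback sqC hp
  have e2 : f ≫ j ≫ φ = j' ≫ gC ≫ φ := by rw [← Category.assoc, ← sqC.w, Category.assoc]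
  have hc' : QuasiCompact (j' ≫ gC ≫ φ) := by rw [← e2]; infer_instance
  have hs' : QuasiSeparated (j' ≫ gC ≫ φ) := by rw [← e2]; infer_instance
  have e3 : iV ≫ j ≫ φ = jD ≫ i ≫ φ := by rw [← Category.assoc, ← sq.w, Category.assoc]
  refine ⟨⟨⟨h2, ?_, K971.SSBasic.isModification_of_isPullback sqC hm1,
    K971.SSBasic.isModification_of_isPullback sqD hm2⟩, ?_⟩,
    K971.SSBasic.isEtaIso_of_isPullback hη sqC, ?_, sqD'⟩
  · rw [e2]
    exact K971.SSRestrict.isMPCurve_restrict hMP sqD' hc' hs'
  · rw [e2]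
    exact K971.SSRestrict.isSemistable_restrict hss sqD' hc' hs'
  · rw [e3]
    exact K971.SSBasic.isEtaIso_of_isPullback hηD sqD

end K106.Restr
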