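import Groth.Agent.SSMod.K755.Plan4
import Groth.Agent.S1591
import Groth.Agent.SSMod.K971.RestrictCurve
import Groth.Agent.SSMod.K122.Marks

/-!
# SSOPEN: semistability near a point of the closed fibre

* `restrict_of_le_iSup`: properties local on the target, on opens.
* `hasRelDim_zero`: etale morphisms have relative dimension zero.
* `main : K755.SSPlan.SSOpen`.
-/

set_option autoImplicit false
universe u
open CategoryTheory CategoryTheory.Limits AlgebraicGeometry TopologicalSpace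

namespace K106.SSOpen

theorem locallyQuasiFinite_of_etale {X Y : Scheme.{u}} (f : X ⟶ Y) [Etale f] :
    LocallyQuasiFinite f := by
  rw [HasRingHomProperty.eq_affineLocally (P := @LocallyQuasiFinite), affineLocally_iff_affineOpens_le]
  intro V W h
  have het : (f.appLE V W h).hom.Etale := HasRingHomProperty.appLE @Etale f inferInstance V W h
  algebraize [(f.appLE V W h).hom]
  exact (RingHom.quasiFinite_algebraMap ..).mpr inferInstance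

theorem topologicalKrullDim_eq_zero {T : Type*}
    [TopologicalSpace T] [DiscreteTopology T] (Z : Set T) (hZ : Z ∈ irreducibleComponents T) :
    topologicalKrullDim Z = 0 := by
  have h1 : Nonempty Z := hZ.1.1.to_subtype
  have h2 : Nonempty (TopologicalSpace.IrreducibleCloseds Z) := by
    obtain ⟨z⟩ := h1
    exact ⟨⟨{z}, isIrreducible_singleton, isClosed_discrete _⟩⟩
  exact le_antisymm (topologicalKrullDim_zero_of_discreteTopology Z) Order.krullDim_nonneg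

theorem hasRelDim_zero {X Y : Scheme.{u}} (f : X ⟶ Y) [Etale f] : Cyc.HasRelDim f 0 := by
  intro y T hT
  have h0 := locallyQuasiFinite_of_etale f
  have h1 : DiscreteTopology (f.fiber y) := inferInstance
  exact_mod_cast topologicalKrullDim_eq_zero T hT

/-- Restriction to an open covered by opens over which the property holds. -/
theorem restrict_of_le_iSup {P : MorphismProperty Scheme.{u}} [IsZariskiLocalAtTarget P] [P.IsStableUnderBaseChange]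
    {X Y : Scheme.{u}} (f : X ⟶ Y) {ι : Type*} (W : ι → Y.Opens) (hW : ∀ i, P (f ∣_ W i)) (U : Y.Opens)
    (hU : U ≤ ⨆ i, W i) : P (f ∣_ U) := by
  refine IsZariskiLocalAtTarget.of_iSup_eq_top (fun i => U.ι ⁻¹ᵁ W i) ?_ fun i => ?_
  · rw [eq_top_iff]
    intro x _
    obtain ⟨i, hi⟩ := Opens.mem_iSup.1 (hU x.2)
    exact Opens.mem_iSup.2 ⟨i, hi⟩
  · have h1 := (isPullback_morphismRestrict (f ∣_ U) (U.ι ⁻¹ᵁ W i)).paste_vert (isPullback_morphismRestrict f U)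
    have h2 : Set.range (((U.ι ⁻¹ᵁ W i).ι ≫ U.ι)) ⊆ Set.range (W i).ι := by
      rintro _ ⟨x, rfl⟩
      rw [Scheme.Opens.range_ι]
      exact x.2
    let l : ((U.ι ⁻¹ᵁ W i : Scheme.Opens _) : Scheme.{u}) ⟶ W i := IsOpenImmersion.lift (W i).ι ((U.ι ⁻¹ᵁ W i).ι ≫ U.ι) h2
    have hl : l ≫ (W i).ι = (U.ι ⁻¹ᵁ W i).ι ≫ U.ι := IsOpenImmersion.lift_fac _ _ _
    have h3 := isPullback_morphismRestrict f (W i)
    rw [← hl] at h1
    have h4 : ((f ∣_ U ∣_ U.ι ⁻¹ᵁ W i) ≫ l) ≫ (W i).ι =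
        (((f ∣_ U) ⁻¹ᵁ U.ι ⁻¹ᵁ W i).ι ≫ (f ⁻¹ᵁ U).ι) ≫ f := by
      rw [Category.assoc]
      exact h1.w
    have h5 : IsPullback (f ∣_ U ∣_ U.ι ⁻¹ᵁ W i) (h3.lift _ _ h4) l (f ∣_ W i) := by
      refine IsPullback.of_bot ?_ (h3.lift_fst _ _ h4).symm h3
      rw [h3.lift_snd]
      exact h1
    exact MorphismProperty.of_isPullback h5.flip (hW i)

/-- **SSOPEN**. -/
theorem main : K755.SSPlan.SSOpen.{u} := by
  intro hMI R _ _ _ _ V Y D _ φ _ g _ hfl hlfp j _ het c hc hcc hN hM hS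
  have hcY : CompactSpace Y := QuasiCompact.compactSpace_of_compactSpace g
  let ψ : Y ⟶ Spec (CommRingCat.of R) := g ≫ φ
  let N1 : Y.Opens := Groth.Agent.S1591.nodalLocus ψ
  let I := {W : Y.Opens // IsClosedImmersion (j ∣_ W)}
  let N2 : Y.Opens := ⨆ W : I, W.1
  let N3 : Y.Opens := ⟨(Set.range (j.base : D → Y) ∩ DualGr.nonsmoothPts ψ)ᶜ,
    ((j.isClosedMap.isClosed_range).inter (K122.Marks.isClosed_nonsmoothPts ψ)).isOpen_compl⟩
  have hpt : ∀ y : Y, g y = c → IsClosed ({y} : Set Y) → y ∈ N1 ⊓ N2 ⊓ N3 := by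
    intro y hy hyc
    refine ⟨⟨?_, ?_⟩, ?_⟩
    · obtain ⟨W, hyW, hW⟩ := hN y hy hyc
      exact Groth.Agent.S1591.le_nodalLocus ψ W hW hyW
    · obtain ⟨W, hyW, hW⟩ := hMI R ψ j het y (by rw [← hc, ← hy]; rfl) hyc (hM y hy hyc)
      exact Opens.mem_iSup.2 ⟨⟨W, hW⟩, hyW⟩
    · rintro ⟨⟨d, rfl⟩, hd⟩
      exact hS d hy hyc hd
  have hfib : ∀ y : Y, g y = c → y ∈ N1 ⊓ N2 ⊓ N3 := by
    intro y hy
    obtain ⟨y₀, hy₀, hc₀⟩ := IsClosed.exists_closed_singleton (isClosed_closure (s := ({y} : Set Y)))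
      ⟨y, subset_closure rfl⟩
    have hsp : y ⤳ y₀ := specializes_iff_mem_closure.2 hy₀
    have h1 : g y₀ = c := by
      have h2 : g y ⤳ g y₀ := hsp.map g.continuous
      rw [hy] at h2
      have h3 := h2.mem_closed hcc rfl
      exact h3
    exact hsp.mem_open (N1 ⊓ N2 ⊓ N3).isOpen (hpt y₀ h1 hc₀)
  let V' : V.Opens := ⟨(g.base '' ((N1 ⊓ N2 ⊓ N3 : Y.Opens) : Set Y)ᶜ)ᶜ,
    (g.isClosedMap _ (N1 ⊓ N2 ⊓ N3).isOpen.isClosed_compl).isOpen_compl⟩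
  have hcV' : c ∈ V' := by
    rintro ⟨y, hy, hyc⟩
    exact hy (hfib y hyc)
  obtain ⟨U, hU, hcU, hUV⟩ := exists_isAffineOpen_mem_and_subset hcV'
  have hle : g ⁻¹ᵁ U ≤ N1 ⊓ N2 ⊓ N3 := by
    intro y hy
    by_contra hn
    exact hUV hy ⟨y, hn, rfl⟩
  refine ⟨U, hU, hcU, ?_⟩
  have hUa : IsAffine U := hU
  have e1 : (g ∣_ U) ≫ U.ι ≫ φ = (g ⁻¹ᵁ U).ι ≫ ψ := by
    rw [← Category.assoc, morphismRestrict_ι, Category.assoc]
  have e2 : (j ∣_ (g ⁻¹ᵁ U)) ≫ (g ∣_ U) ≫ U.ι ≫ φ = (j ⁻¹ᵁ g ⁻¹ᵁ U).ι ≫ j ≫ g ≫ φ := by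
    rw [e1, ← Category.assoc, morphismRestrict_ι, Category.assoc]
  have hnod : Curv2.IsNodalFamily ((g ⁻¹ᵁ U).ι ≫ ψ) := by
    have hle1 : g ⁻¹ᵁ U ≤ N1 := hle.trans (inf_le_left.trans inf_le_left)
    have e3 : (g ⁻¹ᵁ U).ι ≫ ψ = Y.homOfLE hle1 ≫ N1.ι ≫ ψ := by
      rw [← Scheme.homOfLE_ι Y hle1, Category.assoc]
    rw [e3]
    exact Groth.Agent.CurvesB.NodalEtale.isNodalFamily_precomp_etale _ _
      (Groth.Agent.S1591.isNodalFamily_nodalLocus ψ)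
  have hcl : IsClosedImmersion (j ∣_ (g ⁻¹ᵁ U)) :=
    restrict_of_le_iSup (P := @IsClosedImmersion) j (fun W : I => W.1) (fun W => W.2) _
      (hle.trans (inf_le_left.trans inf_le_right))
  have het' : Etale ((j ∣_ (g ⁻¹ᵁ U)) ≫ (g ∣_ U) ≫ U.ι ≫ φ) := by
    rw [e2]
    infer_instance
  have hqc : QuasiCompact ((g ∣_ U) ≫ U.ι ≫ φ) := inferInstance
  have hqs : QuasiSeparated ((g ∣_ U) ≫ U.ι ≫ φ) := inferInstance
  refine ⟨⟨?_, ?_, hqc, hqs, ?_, hcl, inferInstance, inferInstance, hasRelDim_zero _⟩, ?_, het', ?_⟩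
  · rw [e1]
    exact hnod.1
  · rw [e1]
    exact hnod.2.1
  · rw [e1]
    exact fun s => (hnod.2.2 s).1
  · rw [e1]
    exact hnod
  · rw [e1, Set.disjoint_left]
    rintro _ ⟨d, rfl⟩ hd
    have h1 : (g ⁻¹ᵁ U).ι ((j ∣_ (g ⁻¹ᵁ U)) d) = j ((j ⁻¹ᵁ g ⁻¹ᵁ U).ι d) := by
      rw [← Scheme.Hom.comp_apply, ← Scheme.Hom.comp_apply, morphismRestrict_ι]
    have h2 : (g ⁻¹ᵁ U).ι ((j ∣_ (g ⁻¹ᵁ U)) d) ∈ DualGr.nonsmoothPts ψ :=
      (not_congr (Groth.Agent.UnramA.NearPoint.stalkMap_comp_of_isOpenImmersion_formallySmooth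
        (g ⁻¹ᵁ U).ι ψ ((j ∣_ (g ⁻¹ᵁ U)) d))).1 hd
    have h3 : (g ⁻¹ᵁ U).ι ((j ∣_ (g ⁻¹ᵁ U)) d) ∈ N3 := (hle ((j ∣_ (g ⁻¹ᵁ U)) d).2).2
    exact h3 ⟨⟨_, h1.symm⟩, h2⟩

end K106.SSOpen
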